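import Mathlib
import Groth.Prelude.Def_W4c4cptpiccptjacBI

/-!
# Basic inequality on graphs
-/

set_option autoImplicit false
universe u

open Finset LabGraph

namespace Groth.Agent.LGBal

variable {V E : Type u} [Fintype V] [Fintype E] [DecidableEq V] [DecidableEq E] (ends : E → V × V) (w : V → ℕ)

theorem sum_endCount (C : Finset E) : ∑ v : V, endCount ends C v = 2 * C.card := by
  simp only [endCount]
  rw [Finset.sum_comm]
  simp [Finset.sum_add_distrib, mul_comm, two_mul]

theorem canDeg_univ : canDeg ends w univ = 2 * genus ends w - 2 := by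
  have h : ∑ v : V, (endCount ends univ v : ℤ) = 2 * (Fintype.card E : ℤ) := by
    exact_mod_cast sum_endCount ends univ
  simp only [canDeg, genus, Finset.sum_add_distrib, Finset.sum_sub_distrib, ← Finset.mul_sum, h]
  simp
  ring

theorem cut_eq (Y : Finset V) :
    (cut ends Y : ℤ) = ∑ e : E, if ((ends e).1 ∈ Y ↔ (ends e).2 ∈ Y) then 0 else 1 := by
  rw [cut, Finset.card_filter]
  push_cast
  refine Finset.sum_congr rfl fun e _ => ?_
  by_cases h1 : (ends e).1 ∈ Y <;> by_cases h2 : (ends e).2 ∈ Y <;> simp [h1, h2]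

theorem cut_compl (Y : Finset V) : cut ends Yᶜ = cut ends Y := by
  unfold cut
  congr 1
  ext e
  by_cases h1 : (ends e).1 ∈ Y <;> by_cases h2 : (ends e).2 ∈ Y <;> simp [h1, h2]

theorem sum_twist (φ : V → ℤ) (Y : Finset V) :
    ∑ v ∈ Y, twist ends φ v = ∑ e : E, ((if (ends e).1 ∈ Y then φ (ends e).2 - φ (ends e).1 else 0) +
      if (ends e).2 ∈ Y then φ (ends e).1 - φ (ends e).2 else 0) := by
  simp only [twist]
  rw [Finset.sum_comm]
  refine Finset.sum_congr rfl fun e _ => ?_
  rw [Finset.sum_add_distrib, Finset.sum_ite_eq, Finset.sum_ite_eq]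

theorem sum_twist_univ (φ : V → ℤ) : ∑ v : V, twist ends φ v = 0 := by
  rw [sum_twist]
  simp

theorem cut_inequality (Y Z : Finset V) :
    (cut ends (Y ∩ Z) : ℤ) + cut ends (Y ∪ Z) - cut ends Z + 2 * ∑ v ∈ Y, twist ends (fun u => if u ∈ Z then 1 else 0) v ≤
      cut ends Y := by
  rw [sum_twist, cut_eq, cut_eq, cut_eq, cut_eq, Finset.mul_sum, ← Finset.sum_add_distrib, ← Finset.sum_sub_distrib,
    ← Finset.sum_add_distrib]
  refine Finset.sum_le_sum fun e _ => ?_
  by_cases h1 : (ends e).1 ∈ Y <;> by_cases h2 : (ends e).2 ∈ Y <;> by_cases h3 : (ends e).1 ∈ Z <;>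
    by_cases h4 : (ends e).2 ∈ Z <;> simp [h1, h2, h3, h4]

theorem bi_twist (d : V → ℤ) (hK : 0 ≤ canDeg ends w univ) (hBI : SatisfiesBI ends w d) (Z : Finset V)
    (hZ : 2 * (canDeg ends w univ * (∑ v ∈ Z, d v) - (∑ v : V, d v) * canDeg ends w Z) =
      (cut ends Z : ℤ) * canDeg ends w univ) :
    SatisfiesBI ends w (fun v => d v + twist ends (fun u => if u ∈ Z then 1 else 0) v) := by
  set z := fun v => twist ends (fun u => if u ∈ Z then (1 : ℤ) else 0) v with hz
  set K := canDeg ends w univ with hKdef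
  set D := ∑ v : V, d v with hD
  have hz0 : ∑ v : V, z v = 0 := sum_twist_univ ends _
  have up : ∀ Y : Finset V, 2 * (K * (∑ v ∈ Y, (d v + z v)) - D * canDeg ends w Y) ≤ (cut ends Y : ℤ) * K := by
    intro Y
    have h1 := (abs_le.mp (le_of_eq (rfl : |K * (∑ v ∈ Y ∩ Z, d v) - D * canDeg ends w (Y ∩ Z)| = _))).2
    have hA := hBI (Y ∩ Z)
    have hB := hBI (Y ∪ Z)
    have hA' := le_abs_self (K * (∑ v ∈ Y ∩ Z, d v) - D * canDeg ends w (Y ∩ Z))
    have hB' := le_abs_self (K * (∑ v ∈ Y ∪ Z, d v) - D * canDeg ends w (Y ∪ Z))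
    have e1 : ∑ v ∈ Y ∪ Z, d v + ∑ v ∈ Y ∩ Z, d v = ∑ v ∈ Y, d v + ∑ v ∈ Z, d v := Finset.sum_union_inter
    have e2 : canDeg ends w (Y ∪ Z) + canDeg ends w (Y ∩ Z) = canDeg ends w Y + canDeg ends w Z := Finset.sum_union_inter
    have h := mul_le_mul_of_nonneg_right (cut_inequality ends Y Z) hK
    rw [Finset.sum_add_distrib]
    simp only [← hKdef, ← hD] at hA hB
    linear_combination hA + hB + 2 * hA' + 2 * hB' + h - hZ - (2 * K) * e1 + (2 * D) * e2
  intro Y
  have htot : ∑ v : V, (d v + z v) = D := by rw [Finset.sum_add_distrib, hz0, add_zero]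
  show 2 * |K * (∑ v ∈ Y, (d v + z v)) - (∑ v : V, (d v + z v)) * canDeg ends w Y| ≤ _
  rw [htot]
  have h1 := up Y
  have h2 := up Yᶜ
  have e1 : ∑ v ∈ Yᶜ, (d v + z v) = D - ∑ v ∈ Y, (d v + z v) := by
    rw [← htot, ← Finset.sum_compl_add_sum Y]; ring
  have e2 : canDeg ends w Yᶜ = K - canDeg ends w Y := by
    rw [hKdef, canDeg, canDeg, canDeg, ← Finset.sum_compl_add_sum Y]; ring
  rw [e1, e2, cut_compl] at h2
  rcases abs_cases (K * (∑ v ∈ Y, (d v + z v)) - D * canDeg ends w Y) with ⟨ha, -⟩ | ⟨ha, -⟩ <;> rw [ha]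
  · exact h1
  · linarith [show 2 * (K * (D - ∑ v ∈ Y, (d v + z v)) - D * (K - canDeg ends w Y)) ≤ (cut ends Y : ℤ) * K from h2]

theorem twist_sum {ι : Type*} (s : Finset ι) (φ : ι → V → ℤ) (v : V) :
    ∑ i ∈ s, twist ends (φ i) v = twist ends (fun u => ∑ i ∈ s, φ i u) v := by
  simp only [twist]
  rw [Finset.sum_comm]
  refine Finset.sum_congr rfl fun e _ => ?_
  split_ifs <;> simp [Finset.sum_add_distrib, Finset.sum_sub_distrib]

theorem no_loop {v : V} (hv : IsExceptional ends w v) {e : E} : ¬ ((ends e).1 = v ∧ (ends e).2 = v) :=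
  fun h => hv.2.1 e (Prod.ext h.1 h.2)

theorem eq_of_strict (hK : 0 < canDeg ends w univ) (hquasi : ∀ e : E, (ends e).1 ≠ (ends e).2 →
      ¬ (IsExceptional ends w (ends e).1 ∧ IsExceptional ends w (ends e).2))
    (d d' : V → ℤ) (hBI : SatisfiesBI ends w d)
    (hone : ∀ v : V, IsExceptional ends w v → d v = 1) (hone' : ∀ v : V, IsExceptional ends w v → d' v = 1)
    (hstrict : ∀ Y : Finset V, Y.Nonempty → Y ≠ univ →
      2 * (canDeg ends w univ * (∑ v ∈ Y, d v) - (∑ v, d v) * canDeg ends w Y) = (cut ends Y : ℤ) * canDeg ends w univ →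
      ∀ e : E, (((ends e).1 ∈ Y ∧ (ends e).2 ∉ Y) ∨ ((ends e).1 ∉ Y ∧ (ends e).2 ∈ Y)) →
        (IsExceptional ends w (ends e).1 ∨ IsExceptional ends w (ends e).2))
    (m : ℕ) (Z : Fin m → Finset V) (hmono : ∀ i j : Fin m, i ≤ j → Z i ⊆ Z j)
    (hext : ∀ i : Fin m, 2 * (canDeg ends w univ * (∑ v ∈ Z i, d v) - (∑ v, d v) * canDeg ends w (Z i)) =
      (cut ends (Z i) : ℤ) * canDeg ends w univ)
    (hsum : ∀ v : V, d' v = d v + ∑ i : Fin m, twist ends (fun u => if u ∈ Z i then (1 : ℤ) else 0) v) :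
    d = d' := by
  set F : V → ℤ := fun u => ∑ i : Fin m, if u ∈ Z i then (1 : ℤ) else 0 with hF
  have hlt : ∀ a b, F a < F b → ∃ i, b ∈ Z i ∧ a ∉ Z i := by
    intro a b h
    by_contra hcon
    simp only [not_exists, not_and, not_not] at hcon
    refine absurd h (not_lt.mpr (Finset.sum_le_sum fun i _ => ?_))
    by_cases hb : b ∈ Z i
    · simp [hb, hcon i hb]
    · simp only [hb, if_false]; split_ifs <;> norm_num
  have hmem : ∀ a b, F a ≤ F b → ∀ i, a ∈ Z i → b ∈ Z i := by
    intro a b h i ha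
    by_contra hb
    have : F b < F a := by
      refine Finset.sum_lt_sum (fun j _ => ?_) ⟨i, Finset.mem_univ i, by simp [ha, hb]⟩
      by_cases hbj : b ∈ Z j
      · rcases le_total i j with hij | hij
        · simp [hbj, hmono i j hij ha]
        · exact absurd (hmono j i hij hbj) hb
      · simp only [hbj, if_false]; split_ifs <;> norm_num
    omega
  -- the labelling is constant around exceptional vertices
  have hexc : ∀ v, IsExceptional ends w v → ∀ e : E, ((ends e).1 = v ∨ (ends e).2 = v) → F (ends e).1 = F (ends e).2 := by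
    intro v hv e he
    have htw : twist ends F v = 0 := by
      have h := hsum v
      rw [hone v hv, hone' v hv, twist_sum] at h
      linarith [show ∑ i : Fin m, (0 : ℤ) = 0 from by simp, h]
    let oth : E → V := fun e => if (ends e).1 = v then (ends e).2 else (ends e).1
    set s := univ.filter fun e : E => (((ends e).1 ∈ ({v} : Finset V) ∧ (ends e).2 ∉ ({v} : Finset V)) ∨ ((ends e).1 ∉ ({v} : Finset V) ∧ (ends e).2 ∈ ({v} : Finset V))) with hs
    have hscard : s.card = 2 := hv.2.2
    obtain ⟨e₁, e₂, hne, hs12⟩ := Finset.card_eq_two.mp hscard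
    have hin : ∀ x : E, x ∈ s ↔ ((ends x).1 = v ∨ (ends x).2 = v) := by
      intro x
      have := no_loop ends w hv (e := x)
      by_cases h1 : (ends x).1 = v <;> by_cases h2 : (ends x).2 = v <;> simp_all
    have htw' : twist ends F v = (F (oth e₁) - F v) + (F (oth e₂) - F v) := by
      rw [twist, ← Finset.sum_subset (Finset.subset_univ s) (fun x _ hx => by
        rw [hin] at hx; push Not at hx; simp [hx.1, hx.2]), hs12, Finset.sum_pair hne]
      have hterm : ∀ x ∈ s, ((if (ends x).1 = v then F (ends x).2 - F (ends x).1 else 0) +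
          if (ends x).2 = v then F (ends x).1 - F (ends x).2 else 0) = F (oth x) - F v := by
        intro x hx
        have hl := no_loop ends w hv (e := x)
        rcases (hin x).mp hx with h | h
        · have h2 : (ends x).2 ≠ v := fun h2 => hl ⟨h, h2⟩
          simp [oth, h, h2]
        · have h1 : (ends x).1 ≠ v := fun h1 => hl ⟨h1, h⟩
          simp [oth, h, h1]
      rw [hterm e₁ (by rw [hs12]; simp), hterm e₂ (by rw [hs12]; simp)]
    have key : ∀ a b, s = {a, b} → a ≠ b → F v < F (oth a) → F (oth b) < F v → False := by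
      intro a b hab hne hlt1 hlt2
      obtain ⟨j, hj, hvj⟩ := hlt _ _ hlt1
      have hbj : oth b ∉ Z j := fun h => hvj (hmem _ _ hlt2.le j h)
      set Y := insert v (Z j)
      have hcan : canDeg ends w Y = canDeg ends w (Z j) := by
        have hend : endCount ends univ v = 2 := by
          rw [← hscard, endCount, hs, Finset.card_filter]
          refine Finset.sum_congr rfl fun x _ => ?_
          have hl := no_loop ends w hv (e := x)
          by_cases h1 : (ends x).1 = v <;> by_cases h2 : (ends x).2 = v <;> simp_all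
        rw [canDeg, Finset.sum_insert hvj, hend, hv.1]
        simp [canDeg]
      have hd : ∑ u ∈ Y, d u = 1 + ∑ u ∈ Z j, d u := by rw [Finset.sum_insert hvj, hone v hv]
      have hcut : (cut ends Y : ℤ) = cut ends (Z j) := by
        rw [cut_eq, cut_eq]
        rw [← Finset.sum_sdiff (Finset.subset_univ s), ← Finset.sum_sdiff (Finset.subset_univ s)]
        congr 1
        · refine Finset.sum_congr rfl fun x hx => ?_
          rw [Finset.mem_sdiff, hin] at hx
          push Not at hx
          simp [Y, hx.2.1, hx.2.2]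
        · rw [hab, Finset.sum_pair hne, Finset.sum_pair hne]
          have hterm : ∀ x ∈ s, ((if ((ends x).1 ∈ Y ↔ (ends x).2 ∈ Y) then (0:ℤ) else 1) = (if oth x ∈ Z j then 0 else 1)) ∧
              ((if ((ends x).1 ∈ Z j ↔ (ends x).2 ∈ Z j) then (0:ℤ) else 1) = (if oth x ∈ Z j then 1 else 0)) := by
            intro x hx
            have hl := no_loop ends w hv (e := x)
            rcases (hin x).mp hx with h | h
            · have h2 : (ends x).2 ≠ v := fun h2 => hl ⟨h, h2⟩
              simp [oth, Y, h, h2, hvj]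
            · have h1 : (ends x).1 ≠ v := fun h1 => hl ⟨h1, h⟩
              simp [oth, Y, h, h1, hvj]
          rw [(hterm a (by rw [hab]; simp)).1, (hterm b (by rw [hab]; simp)).1, (hterm a (by rw [hab]; simp)).2,
            (hterm b (by rw [hab]; simp)).2]
          simp [hj, hbj]
      have h := hBI Y
      rw [hd, hcan, hcut] at h
      have h' := le_abs_self (canDeg ends w univ * (1 + ∑ u ∈ Z j, d u) - (∑ u, d u) * canDeg ends w (Z j))
      nlinarith [hext j]
    have hzero : F (oth e₁) = F v ∧ F (oth e₂) = F v := by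
      rw [htw'] at htw
      rcases lt_trichotomy (F v) (F (oth e₁)) with h | h | h
      · exact (key e₁ e₂ hs12 hne h (by omega)).elim
      · exact ⟨h.symm, by omega⟩
      · exact (key e₂ e₁ (by rw [hs12, Finset.pair_comm]) hne.symm (by omega) h).elim
    have hes : e = e₁ ∨ e = e₂ := by
      have := (hin e).mpr he
      simpa [hs12] using this
    have hoth : F (oth e) = F v := by rcases hes with rfl | rfl; exacts [hzero.1, hzero.2]
    have hl := no_loop ends w hv (e := e)
    rcases he with h | h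
    · simp only [oth, if_pos h] at hoth
      rw [h, hoth]
    · have h1 : (ends e).1 ≠ v := fun h1 => hl ⟨h1, h⟩
      simp only [oth, if_neg h1] at hoth
      rw [h, hoth]
  -- hence on every edge
  have hedge : ∀ e : E, F (ends e).1 = F (ends e).2 := by
    intro e
    by_contra hne
    have : ∃ j, ((ends e).1 ∈ Z j ∧ (ends e).2 ∉ Z j) ∨ ((ends e).1 ∉ Z j ∧ (ends e).2 ∈ Z j) := by
      rcases lt_or_gt_of_ne hne with h | h
      · obtain ⟨j, h1, h2⟩ := hlt _ _ h; exact ⟨j, Or.inr ⟨h2, h1⟩⟩
      · obtain ⟨j, h1, h2⟩ := hlt _ _ h; exact ⟨j, Or.inl ⟨h1, h2⟩⟩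
    obtain ⟨j, hj⟩ := this
    have hne' : (Z j).Nonempty := by rcases hj with h | h; exacts [⟨_, h.1⟩, ⟨_, h.2⟩]
    have huniv : Z j ≠ univ := by
      intro hu
      rcases hj with h | h
      · exact h.2 (hu ▸ Finset.mem_univ _)
      · exact h.1 (hu ▸ Finset.mem_univ _)
    rcases hstrict (Z j) hne' huniv (hext j) e hj with h | h
    · exact hne (hexc _ h e (Or.inl rfl))
    · exact hne (hexc _ h e (Or.inr rfl))
  funext v
  rw [hsum v, twist_sum]
  have : twist ends F v = 0 := by
    simp only [twist]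
    exact Finset.sum_eq_zero fun e _ => by simp [hedge e]
  simp only [hF] at this
  rw [this, add_zero]

end Groth.Agent.LGBal
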